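import Mathlib

/-!
# Uniqueness of fibre functors on a Galois category
-/

set_option autoImplicit false
set_option backward.isDefEq.respectTransparency false

universe u v w

open CategoryTheory CategoryTheory.Limits CategoryTheory.PreGaloisCategory

noncomputable section

namespace Groth.Agent.GalUniq

variable {C : Type u} [Category.{v} C] [GaloisCategory C]

section Maps

variable (G : C ⥤ FintypeCat.{w})

theorem bijective_sigma_map [PreservesFiniteCoproducts G] {ι : Type v} [Finite ι] (f : ι → C) :
    Function.Bijective fun p : (i : ι) × (G.obj (f i)).obj => G.map (Sigma.ι f p.1) p.2 := by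
  have h : IsColimit ((G ⋙ FintypeCat.incl).mapCocone (Cofan.mk _ (Sigma.ι f))) := by
    haveI : PreservesColimit (Discrete.functor f) G := inferInstance
    haveI : PreservesColimit (Discrete.functor f ⋙ G) FintypeCat.incl := inferInstance
    exact isColimitOfPreserves _ (coproductIsCoproduct f)
  have h' := isColimitMapCoconeCofanMkEquiv (G ⋙ FintypeCat.incl) f (Sigma.ι f) h
  exact CofanTypes.bijective_fromSigma_of_isColimit
    ((Types.isColimit_iff_coconeTypesIsColimit _).1 ⟨h'⟩)

theorem bijective_prod_map [PreservesFiniteLimits G] (X Y : C) :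
    Function.Bijective fun y : (G.obj (X ⨯ Y)).obj =>
      (G.map prod.fst y, G.map prod.snd y) := by
  haveI : PreservesFiniteLimits (G ⋙ FintypeCat.incl) := comp_preservesFiniteLimits _ _
  let e := PreservesLimitPair.iso (G ⋙ FintypeCat.incl) X Y ≪≫
    Types.binaryProductIso (G.obj X).obj (G.obj Y).obj
  have he : (fun y : (G.obj (X ⨯ Y)).obj => (G.map prod.fst y, G.map prod.snd y)) = e.toEquiv := by
    funext y
    refine Prod.ext ?_ ?_
    · show _ = (e.hom ≫ ↾Prod.fst) y
      rw [show e.hom ≫ ↾Prod.fst = (G ⋙ FintypeCat.incl).map prod.fst by simp [e]; exact prodComparison_fst (G ⋙ FintypeCat.incl) X Y]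
      rfl
    · show _ = (e.hom ≫ ↾Prod.snd) y
      rw [show e.hom ≫ ↾Prod.snd = (G ⋙ FintypeCat.incl).map prod.snd by simp [e]; exact prodComparison_snd (G ⋙ FintypeCat.incl) X Y]
      rfl
  rw [he]
  exact e.toEquiv.bijective

/-- The canonical map `∐_{g : A → X} A → X × A`. -/
def graphMap (A X : C) [IsConnected A] : (∐ fun _ : A ⟶ X => A) ⟶ X ⨯ A :=
  Sigma.desc fun g => prod.lift g (𝟙 A)

theorem bijective_graphMap_iff [PreservesFiniteLimits G] [PreservesFiniteCoproducts G] (A X : C)
    [IsConnected A] :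
    Function.Bijective (G.map (graphMap A X)) ↔
      ∀ b : (G.obj A).obj, Function.Bijective fun g : A ⟶ X => G.map g b := by
  rw [← Function.Bijective.of_comp_iff (G.map (graphMap A X))
      (bijective_sigma_map G (fun _ : A ⟶ X => A)),
    ← Function.Bijective.of_comp_iff' (bijective_prod_map G X A)]
  have key : ((fun y => (G.map prod.fst y, G.map prod.snd y)) ∘ G.map (graphMap A X) ∘
      fun p : (_ : A ⟶ X) × (G.obj A).obj => G.map (Sigma.ι (fun _ : A ⟶ X => A) p.1) p.2) =
      fun p => (G.map p.1 p.2, p.2) := by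
    funext ⟨g, b⟩
    simp only [Function.comp_apply, ← FintypeCat.comp_apply, ← G.map_comp, graphMap,
      Sigma.ι_desc, prod.lift_fst, prod.lift_snd, G.map_id, FintypeCat.id_apply]
  rw [key]
  constructor
  · intro h b
    refine ⟨fun g g' e => ?_, fun x => ?_⟩
    · have : (⟨g, b⟩ : (_ : A ⟶ X) × (G.obj A).obj) = ⟨g', b⟩ := h.1 (Prod.ext e rfl)
      exact congrArg Sigma.fst this
    · obtain ⟨⟨g, b'⟩, hg⟩ := h.2 (x, b)
      obtain ⟨h₁, rfl⟩ := Prod.ext_iff.1 hg
      exact ⟨g, h₁⟩
  · intro h
    refine ⟨fun ⟨g, b⟩ ⟨g', b'⟩ e => ?_, fun ⟨x, b⟩ => ?_⟩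
    · obtain ⟨h₁, h₂⟩ := Prod.ext_iff.1 e
      dsimp only at h₁ h₂
      subst h₂
      obtain rfl := (h b).1 h₁
      rfl
    · obtain ⟨g, hg⟩ := (h b).2 x
      exact ⟨⟨g, b⟩, Prod.ext hg rfl⟩

end Maps

variable (F : C ⥤ FintypeCat.{w}) [FiberFunctor F]

/-- A pointed Galois object splits `X` if all points of `X` come from it. -/
def Splits (A : PointedGaloisObject F) (X : C) : Prop :=
  Function.Bijective fun g : A.obj ⟶ X => F.map g A.pt

theorem exists_splits (X : C) : ∃ A : PointedGaloisObject F, Splits F A X := by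
  obtain ⟨A, a, hA, hb⟩ := exists_galois_representative F X
  exact ⟨⟨A, a, hA⟩, hb⟩

theorem bijective_of_splits {A : PointedGaloisObject F} {X : C} (h : Splits F A X)
    (b : (F.obj A.obj).obj) : Function.Bijective fun g : A.obj ⟶ X => F.map g b := by
  obtain ⟨σ, rfl⟩ := (evaluation_aut_bijective_of_isGalois F A.obj A.pt).2 b
  have : (fun g : A.obj ⟶ X => F.map g (F.map σ.hom A.pt)) =
      (fun g : A.obj ⟶ X => F.map g A.pt) ∘ (σ.homFromEquiv (Z := X)).symm := by
    funext g
    exact (ConcreteCategory.congr_hom (F.map_comp σ.hom g) A.pt).symm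
  rw [this]
  exact h.comp (Equiv.bijective _)

theorem cone_objs (A B : PointedGaloisObject F) :
    ∃ (D : PointedGaloisObject F) (_ : D ⟶ A) (_ : D ⟶ B), True := by
  obtain ⟨Z, f, z, hgal, hfz⟩ := exists_hom_from_galois_of_fiber F (A.obj ⨯ B.obj)
    ((fiberBinaryProductEquiv F A.obj B.obj).symm (A.pt, B.pt))
  refine ⟨⟨Z, z, hgal⟩, ⟨f ≫ prod.fst, ?_⟩, ⟨f ≫ prod.snd, ?_⟩, trivial⟩
  · simp only [F.map_comp, FintypeCat.comp_apply, hfz, fiberBinaryProductEquiv_symm_fst_apply]
  · simp only [F.map_comp, FintypeCat.comp_apply, hfz, fiberBinaryProductEquiv_symm_snd_apply]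

instance isCofiltered : IsCofilteredOrEmpty (PointedGaloisObject F) where
  cone_objs := cone_objs F
  cone_maps := fun A B f g => by
    refine ⟨A, 𝟙 A, ?_⟩
    have : f = g := PointedGaloisObject.hom_ext
      (evaluation_injective_of_isConnected F A.obj B.obj A.pt (f.comp.trans g.comp.symm))
    rw [this]

variable (F' : C ⥤ FintypeCat.{w}) [PreservesFiniteLimits F'] [PreservesFiniteCoproducts F']

theorem bijective_eval {A : PointedGaloisObject F} {X : C} (h : Splits F A X)
    (b : (F'.obj A.obj).obj) : Function.Bijective fun g : A.obj ⟶ X => F'.map g b := by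
  have h₁ : Function.Bijective (F.map (graphMap A.obj X)) :=
    (bijective_graphMap_iff F A.obj X).2 fun b => bijective_of_splits F h b
  haveI : IsIso (F.map (graphMap A.obj X)) := (ConcreteCategory.isIso_iff_bijective _).2 h₁
  haveI : IsIso (graphMap A.obj X) := isIso_of_reflects_iso _ F
  exact (bijective_graphMap_iff F' A.obj X).1
    ((ConcreteCategory.isIso_iff_bijective (F'.map (graphMap A.obj X))).1 inferInstance) b

/-- Every map from a fibre functor is an isomorphism. -/
theorem isIso_natTrans (φ : F ⟶ F') : IsIso φ := by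
  haveI : ∀ X, IsIso (φ.app X) := fun X => by
    obtain ⟨A, hA⟩ := exists_splits F X
    rw [ConcreteCategory.isIso_iff_bijective]
    refine (Function.Bijective.of_comp_iff _ hA).1 ?_
    have : (φ.app X ∘ fun g : A.obj ⟶ X => F.map g A.pt) =
        fun g : A.obj ⟶ X => F'.map g (φ.app A.obj A.pt) := by
      funext g
      exact NatTrans.naturality_apply φ g A.pt
    rw [this]
    exact bijective_eval F F' hA _
  exact NatIso.isIso_of_isIso_app φ

/-- A compatible family of base points of `F'`. -/
theorem exists_natTrans (hne : ∀ A : PointedGaloisObject F, Nonempty (F'.obj A.obj).obj) :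
    Nonempty (F ⟶ F') := by
  let D : PointedGaloisObject F ⥤ Type w :=
    PointedGaloisObject.incl F ⋙ F' ⋙ FintypeCat.incl
  haveI : ∀ A, Finite (D.obj A) := fun A => (F'.obj A.obj).property
  haveI : ∀ A, Nonempty (D.obj A) := hne
  obtain ⟨s, hs⟩ := nonempty_sections_of_finite_cofiltered_system D
  have hs' : ∀ {A B : PointedGaloisObject F} (f : A ⟶ B), F'.map f.val (s A) = s B :=
    fun f => hs f
  have wd : ∀ {X : C} (A B : PointedGaloisObject F) (g : A.obj ⟶ X) (k : B.obj ⟶ X),
      F.map g A.pt = F.map k B.pt → F'.map g (s A) = F'.map k (s B) := by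
    intro X A B g k e
    obtain ⟨E, p, q, -⟩ := cone_objs F A B
    have : p.val ≫ g = q.val ≫ k :=
      evaluation_injective_of_isConnected F E.obj X E.pt (by
        show F.map (p.val ≫ g) E.pt = F.map (q.val ≫ k) E.pt
        rw [F.map_comp, F.map_comp, FintypeCat.comp_apply, FintypeCat.comp_apply, p.comp, q.comp, e])
    rw [← hs' p, ← hs' q, ← FintypeCat.comp_apply, ← F'.map_comp, this, F'.map_comp,
      FintypeCat.comp_apply]
  choose A hA using exists_splits F
  choose g hg using fun X x => (hA X).2 x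
  exact ⟨{
    app := fun X => FintypeCat.homMk fun x => F'.map (g X x) (s (A X))
    naturality := fun X Y h => FintypeCat.hom_ext _ _ fun x => by
      show F'.map (g Y (F.map h x)) (s (A Y)) = F'.map h (F'.map (g X x) (s (A X)))
      rw [← FintypeCat.comp_apply, ← F'.map_comp]
      refine wd _ _ _ _ ?_
      have h₁ : F.map (g Y (F.map h x)) (A Y).pt = F.map h x := hg Y (F.map h x)
      rw [h₁, F.map_comp, FintypeCat.comp_apply]
      exact congrArg _ (hg X x).symm }⟩

/-- A functor with the exactness properties of a fibre functor is isomorphic to it. -/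
theorem nonempty_iso (hne : ∀ A : PointedGaloisObject F, Nonempty (F'.obj A.obj).obj) :
    Nonempty (F' ≅ F) := by
  obtain ⟨φ⟩ := exists_natTrans F F' hne
  haveI := isIso_natTrans F F' φ
  exact ⟨(asIso φ).symm⟩

omit [PreservesFiniteCoproducts F'] in
theorem preservesFiniteCoproducts_of_binary
    [PreservesColimitsOfShape (Discrete WalkingPair) F'] : PreservesFiniteCoproducts F' := by
  have hi : IsEmpty (F'.obj (⊥_ C)).obj := by
    have hc : IsColimit (BinaryCofan.mk (𝟙 (⊥_ C)) (𝟙 (⊥_ C))) :=
      BinaryCofan.IsColimit.mk _ (fun _ _ => initial.to _)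
        (fun _ _ => initialIsInitial.hom_ext _ _) (fun _ _ => initialIsInitial.hom_ext _ _)
        (fun _ _ _ _ _ => initialIsInitial.hom_ext _ _)
    have hc' := isColimitMapCoconeBinaryCofanEquiv (F' ⋙ FintypeCat.incl) _ _
      (isColimitOfPreserves (F' ⋙ FintypeCat.incl) hc)
    obtain ⟨-, -, h⟩ := (Types.binaryCofan_isColimit_iff _).1 ⟨hc'⟩
    exact ⟨fun x => (Set.disjoint_left.1 h.disjoint) (a := x) ⟨x, by simp⟩ ⟨x, by simp⟩⟩
  haveI : PreservesColimit (Functor.empty.{0} C) F' := by
    refine preservesColimit_of_preserves_colimit_cocone initialIsInitial ?_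
    refine (isColimitMapCoconeEmptyCoconeEquiv F' _).symm ?_
    exact ((Concrete.initial_iff_empty_of_preserves_of_reflects (F'.obj (⊥_ C))).2 hi).some
  haveI : PreservesColimitsOfShape (Discrete PEmpty.{1}) F' :=
    preservesColimitsOfShape_pempty_of_preservesInitial _
  exact ⟨fun n => preservesShape_fin_of_preserves_binary_and_initial _ n⟩

omit [PreservesFiniteCoproducts F'] in
theorem nonempty_of_preservesEpi [F'.PreservesEpimorphisms] (A : C) [IsConnected A] :
    Nonempty (F'.obj A).obj := by
  let F₀ := GaloisCategory.getFiberFunctor C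
  haveI u (G : C ⥤ FintypeCat.{w}) [PreservesFiniteLimits G] : Unique (G.obj (⊤_ C)).obj :=
    Types.isTerminalEquivUnique _
      (terminalIsTerminal.isTerminalObj (G ⋙ FintypeCat.incl) _)
  haveI u₀ : Unique (F₀.obj (⊤_ C)).obj :=
    Types.isTerminalEquivUnique _
      (terminalIsTerminal.isTerminalObj (F₀ ⋙ FintypeCat.incl) _)
  haveI : Epi (terminal.from A) := by
    refine F₀.epi_of_epi_map (ConcreteCategory.epi_of_surjective _ fun t => ?_)
    obtain ⟨a⟩ := nonempty_fiber_of_isConnected F₀ A
    exact ⟨a, Subsingleton.elim _ _⟩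
  obtain ⟨x, -⟩ := surjective_of_epi (FintypeCat.incl.map (F'.map (terminal.from A))) (u F').default
  exact ⟨x⟩

end Groth.Agent.GalUniq
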